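import Mathlib
import Groth.Prelude.Def_RDerDelta
import Groth.Agent.Lib.Lead.RS.Natural
import Groth.Agent.Lib.Lead.QC.BiprodSec

set_option autoImplicit false
universe v v' v'' u u' u''
open CategoryTheory CategoryTheory.Limits

namespace Groth.Agent.H8.SectCmp

open Groth.Agent.LD.RS

section Abstract

variable {𝒜 : Type u''} [Category.{v''} 𝒜] [Abelian 𝒜] [HasInjectiveResolutions 𝒜]
  {ℬ : Type u} [Category.{v} ℬ] [Abelian ℬ] {𝒞 : Type u'} [Category.{v'} 𝒞] [Abelian 𝒞]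
  (F : 𝒜 ⥤ ℬ) [F.Additive] (Δ : RDer.DerivedLES F)
  (G : ℬ ⥤ 𝒞) [G.Additive] [PreservesFiniteLimits G]
  {P : ℬ → Prop} (hP : AcycClass G P)
  (S : ShortComplex 𝒜) (hS : S.ShortExact) [Injective S.X₂]

lemma isZero_R_succ (n : ℕ) : IsZero ((F.rightDerived (n + 1)).obj S.X₂) :=
  Functor.isZero_rightDerived_obj_injective_succ _ n _

include hS in
lemma epi_δ (n : ℕ) : Epi (Δ.δ S hS n (n + 1) rfl) :=
  (Δ.exact₁ S hS n (n + 1) rfl).epi_f ((isZero_R_succ F S n).eq_of_tgt _ _)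

lemma mono_δ_succ (n : ℕ) : Mono (Δ.δ S hS (n + 1) (n + 2) rfl) :=
  (Δ.exact₃ S hS (n + 1) (n + 2) rfl).mono_g ((isZero_R_succ F S n).eq_of_src _ _)

lemma isIso_δ_succ (n : ℕ) : IsIso (Δ.δ S hS (n + 1) (n + 2) rfl) := by
  haveI := mono_δ_succ F Δ S hS n
  haveI := epi_δ F Δ S hS (n + 1)
  exact isIso_of_mono_of_epi _

include hS in
lemma mono_R0_map_f [PreservesFiniteLimits F] : Mono ((F.rightDerived 0).map S.f) := by
  haveI := hS.mono_f
  haveI : IsIso F.toRightDerivedZero := inferInstance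
  have nat := F.toRightDerivedZero.naturality S.f
  have e : (F.rightDerived 0).map S.f =
      inv (F.toRightDerivedZero.app S.X₁) ≫ F.map S.f ≫ F.toRightDerivedZero.app S.X₂ := by
    rw [nat, IsIso.inv_hom_id_assoc]
  rw [e]
  haveI : Mono (F.map S.f) := inferInstance
  infer_instance

variable [PreservesFiniteLimits F] (h₁ : Good F P S.X₁) (h₂ : P ((F.rightDerived 0).obj S.X₂))

include hP h₁ h₂ in
/-- `P` for the kernel of the first connecting morphism. -/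
lemma P_kernel_δ₀ : P (kernel (Δ.δ S hS 0 1 rfl)) := by
  haveI := mono_R0_map_f F S hS
  have hex₂ := Δ.exact₂ S hS 0
  have hex₃ := Δ.exact₃ S hS 0 1 rfl
  have T₁ := Groth.Agent.LD.QC.shortExact_kernel_lift ((F.rightDerived 0).map S.g)
    (Δ.δ S hS 0 1 rfl) (Δ.comp_δ S hS 0 1 rfl) hex₃
  let e : (F.rightDerived 0).obj S.X₁ ≅ kernel ((F.rightDerived 0).map S.g) :=
    IsLimit.conePointUniqueUpToIso hex₂.fIsKernel
      (limit.isLimit (parallelPair ((F.rightDerived 0).map S.g) 0))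
  exact hP.coker _ T₁ (hP.iso e (h₁ 0)) h₂

lemma shortExact_kernel_δ₀ :
    (ShortComplex.mk (kernel.ι (Δ.δ S hS 0 1 rfl)) (Δ.δ S hS 0 1 rfl)
      (kernel.condition _)).ShortExact :=
  { exact := ShortComplex.exact_kernel _
    mono_f := inferInstanceAs (Mono (kernel.ι _))
    epi_g := epi_δ F Δ S hS 0 }

include hP h₁ h₂ in
lemma epi_G_δ₀ : Epi (G.map (Δ.δ S hS 0 1 rfl)) :=
  hP.epi _ (shortExact_kernel_δ₀ F Δ S hS) (P_kernel_δ₀ F Δ G hP S hS h₁ h₂)

include hP h₁ h₂ in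
lemma exact_G₀ :
    (ShortComplex.mk (G.map ((F.rightDerived 0).map S.g)) (G.map (Δ.δ S hS 0 1 rfl))
      (by rw [← G.map_comp, Δ.comp_δ, G.map_zero])).Exact := by
  haveI := mono_R0_map_f F S hS
  have hex₂ := Δ.exact₂ S hS 0
  have hex₃ := Δ.exact₃ S hS 0 1 rfl
  have T₁ := Groth.Agent.LD.QC.shortExact_kernel_lift ((F.rightDerived 0).map S.g)
    (Δ.δ S hS 0 1 rfl) (Δ.comp_δ S hS 0 1 rfl) hex₃
  let e : (F.rightDerived 0).obj S.X₁ ≅ kernel ((F.rightDerived 0).map S.g) :=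
    IsLimit.conePointUniqueUpToIso hex₂.fIsKernel
      (limit.isLimit (parallelPair ((F.rightDerived 0).map S.g) 0))
  haveI hepi : Epi (G.map (kernel.lift (Δ.δ S hS 0 1 rfl) ((F.rightDerived 0).map S.g)
      (Δ.comp_δ S hS 0 1 rfl))) := hP.epi _ T₁ (hP.iso e (h₁ 0))
  have T₂ := shortExact_kernel_δ₀ F Δ S hS
  have hT₂G := T₂.exact.map_of_mono_of_preservesKernel G T₂.mono_f inferInstance
  let φ : ShortComplex.mk (G.map ((F.rightDerived 0).map S.g)) (G.map (Δ.δ S hS 0 1 rfl))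
      (by rw [← G.map_comp, Δ.comp_δ, G.map_zero]) ⟶
      (ShortComplex.mk (kernel.ι (Δ.δ S hS 0 1 rfl)) (Δ.δ S hS 0 1 rfl)
        (kernel.condition _)).map G :=
    { τ₁ := G.map (kernel.lift (Δ.δ S hS 0 1 rfl) ((F.rightDerived 0).map S.g)
        (Δ.comp_δ S hS 0 1 rfl))
      τ₂ := 𝟙 _
      τ₃ := 𝟙 _
      comm₁₂ := by
        change G.map _ ≫ G.map _ = G.map _ ≫ 𝟙 _
        rw [← G.map_comp, kernel.lift_ι, Category.comp_id]
      comm₂₃ := by
        change 𝟙 _ ≫ G.map _ = G.map _ ≫ 𝟙 _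
        rw [Category.comp_id, Category.id_comp] }
  haveI : Epi φ.τ₁ := hepi
  haveI : IsIso φ.τ₂ := inferInstanceAs (IsIso (𝟙 _))
  haveI : Mono φ.τ₃ := inferInstanceAs (Mono (𝟙 _))
  exact (ShortComplex.exact_iff_of_epi_of_isIso_of_mono φ).2 hT₂G

include hP h₁ h₂ Δ hS in
lemma good_X₃ (hP0 : ∀ Z : ℬ, IsZero Z → P Z) : Good F P S.X₃ := by
  intro n
  rcases n with _ | n
  · exact hP.ext _ (shortExact_kernel_δ₀ F Δ S hS) (P_kernel_δ₀ F Δ G hP S hS h₁ h₂) (h₁ 1)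
  · haveI := isIso_δ_succ F Δ S hS n
    exact hP.iso (asIso (Δ.δ S hS (n + 1) (n + 2) rfl)).symm (h₁ (n + 2))

omit [G.Additive] [PreservesFiniteLimits G] [PreservesFiniteLimits F] in
lemma good_of_injective (I : 𝒜) [Injective I] (hI : P ((F.rightDerived 0).obj I))
    (hP0 : ∀ Z : ℬ, IsZero Z → P Z) : Good F P I := by
  intro n
  rcases n with _ | n
  · exact hI
  · exact hP0 _ (Functor.isZero_rightDerived_obj_injective_succ _ n _)

end Abstract

end Groth.Agent.H8.SectCmp
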