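import Mathlib
import Groth.Prelude.Def_CohCmp
import Groth.Agent.Lib.Lead.QC.Epi
import Groth.Agent.Lib.Helper3.ZClosLib

universe u

open CategoryTheory CategoryTheory.Limits AlgebraicGeometry Scheme.Modules Opposite TopologicalSpace

namespace Groth.Agent.H8.SectCmp

variable {X Y : Scheme.{u}}

/-- the forgetful functor to abelian sheaves. -/
noncomputable abbrev τ (X : Scheme.{u}) :
    X.Modules ⥤ Sheaf (Opens.grothendieckTopology X) AddCommGrpCat.{u} :=
  SheafOfModules.toSheaf X.ringCatSheaf

instance : (τ X).Additive :=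
  inferInstanceAs (SheafOfModules.toSheaf.{u} X.ringCatSheaf).Additive

instance : PreservesFiniteLimits (τ X) :=
  inferInstanceAs (PreservesFiniteLimits (SheafOfModules.toSheaf.{u} X.ringCatSheaf))

theorem toSheaf_shortExact (S : ShortComplex X.Modules) (hS : S.ShortExact) :
    (S.map (τ X)).ShortExact := by
  haveI := hS.mono_f
  haveI := hS.epi_g
  exact
    { exact := hS.exact.map_of_mono_of_preservesKernel _ hS.mono_f inferInstance
      mono_f := by
        change Mono ((τ X).map _)
        infer_instance
      epi_g := @Groth.Agent.LD.QC.toSheaf_map_epi _ _ _ X.ringCatSheaf _ _ _ _ S.g hS.epi_g }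

/-- `toAbOn` carries short exact sequences of modules to short exact sequences of abelian sheaves. -/
theorem toAbOn_shortExact (U : X.Opens) (S : ShortComplex X.Modules) (hS : S.ShortExact) :
    (S.map (CohCmp.toAbOn X U)).ShortExact := by
  haveI : PreservesFiniteLimits (Scheme.Modules.restrictFunctor U.ι) :=
    Groth.Agent.H3.ZClosLib.preservesFiniteLimits_restrictFunctor U
  haveI : (Scheme.Modules.restrictFunctor U.ι).Additive :=
    (Scheme.Modules.restrictAdjunction U.ι).left_adjoint_additive
  haveI : PreservesFiniteColimits (Scheme.Modules.restrictFunctor U.ι) := by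
    haveI : PreservesColimitsOfSize.{0, 0} (Scheme.Modules.restrictFunctor U.ι) :=
      (Scheme.Modules.restrictAdjunction U.ι).leftAdjoint_preservesColimits
    exact PreservesColimitsOfSize.preservesFiniteColimits _
  have h1 : (S.map (Scheme.Modules.restrictFunctor U.ι)).ShortExact := hS.map_of_exact _
  exact toSheaf_shortExact _ h1


lemma app_res {M N : Y.Modules} (φ : M ⟶ N) {U V : Y.Opens} (h : U ≤ V)
    (s : M.presheaf.obj (op V)) :
    φ.app U (M.presheaf.map (homOfLE h).op s) = N.presheaf.map (homOfLE h).op (φ.app V s) := by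
  have := φ.mapPresheaf.naturality (homOfLE h).op
  have h2 := congr_arg (fun t => t s) (congr_arg (fun t => (ConcreteCategory.hom t : _ → _)) this)
  simpa using h2

variable (f : X ⟶ Y) [HasInjectiveResolutions X.Modules]
  {Δ : RDer.DerivedLES (pushforward f)} (E : CohCmp.SectCmp f Δ)

theorem eps_locally_surjective (p : ℕ) :
    ∀ (F : X.Modules) (V : Y.Opens) (t : ((Coh.Rpush f p).obj F).presheaf.obj (op V))
      (y : Y) (_ : y ∈ V),
    ∃ (W : Y.Opens) (hWV : W ≤ V), y ∈ W ∧
      ∃ x : Coh.HHon X F (f ⁻¹ᵁ W) p,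
        E.ε W F p x = ((Coh.Rpush f p).obj F).presheaf.map (homOfLE hWV).op t := by
  induction p with
  | zero =>
    intro F V t y hy
    haveI : PreservesFiniteLimits (pushforward f) := by
      haveI := (pullbackPushforwardAdjunction f).rightAdjoint_preservesLimits
      infer_instance
    haveI : IsIso ((pushforward f).toRightDerivedZero) := inferInstance
    let φ := (pushforward f).toRightDerivedZero.app F
    let s := (inv φ).app V t
    refine ⟨V, le_rfl, hy, CohPull.sectH0 F _ s, ?_⟩
    rw [E.zero]
    have h1 : φ.app V s = t := by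
      change φ.app V ((inv φ).app V t) = t
      rw [← ConcreteCategory.comp_apply, ← Scheme.Modules.Hom.comp_app, IsIso.inv_hom_id]
      rfl
    have h2 : (homOfLE (le_refl V)).op = 𝟙 (op V) := Subsingleton.elim _ _
    rw [h2, CategoryTheory.Functor.map_id]
    exact h1
  | succ p ih =>
    intro F V t y hy
    let R := injectiveResolution F
    let i : F ⟶ R.cocomplex.X 0 := R.ι.f 0
    haveI hi : Mono i := inferInstanceAs (Mono (R.ι.f 0))
    haveI : Injective (R.cocomplex.X 0) := R.injective 0
    let S : ShortComplex X.Modules := ShortComplex.mk i (cokernel.π i) (cokernel.condition i)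
    have hS : S.ShortExact :=
      { exact := ShortComplex.exact_cokernel i
        mono_f := hi
        epi_g := inferInstanceAs (Epi (cokernel.π i)) }
    let δ := Δ.δ S hS p (p + 1) rfl
    have hz : IsZero ((Coh.Rpush f (p + 1)).obj S.X₂) :=
      Functor.isZero_rightDerived_obj_injective_succ _ p _
    have hepi : Epi δ := (Δ.exact₁ S hS p (p + 1) rfl).epi_f (hz.eq_of_tgt _ _)
    obtain ⟨W₁, hW₁, hyW₁, t', ht'⟩ := Groth.Agent.LD.QC.exists_local_lift δ hepi V t y hy
    obtain ⟨W, hW, hyW, x', hx'⟩ := ih S.X₃ W₁ t' y hyW₁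
    refine ⟨W, hW.trans hW₁, hyW, CohCmp.extδ (toAbOn_shortExact _ S hS) p x', ?_⟩
    rw [E.delta W S hS _ p x', hx', app_res, ht']
    change _ = (ConcreteCategory.hom (((Coh.Rpush f (p + 1)).obj F).presheaf.map
      (homOfLE (hW.trans hW₁)).op)) t
    have h3 : (homOfLE (hW.trans hW₁)).op = (homOfLE hW₁).op ≫ (homOfLE hW).op :=
      Subsingleton.elim _ _
    rw [h3, CategoryTheory.Functor.map_comp]
    rfl

end Groth.Agent.H8.SectCmp
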