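import Mathlib
import Groth.Prelude.Def_CohCmp
import Groth.Agent.Lib.Helper8.SectCmp.LocSurj
import Groth.Agent.Lib.Lead.SC.TotAcyc
import Groth.Agent.Lib.Lead.SC.Restrict
import Groth.Agent.Lib.Lead.KT.Core
import Groth.Agent.Lib.Lead.RP.ToAb

set_option autoImplicit false
universe u
open CategoryTheory CategoryTheory.Limits AlgebraicGeometry Scheme.Modules Opposite TopologicalSpace Abelian

namespace Groth.Agent.H8.SectCmp

variable {X : Scheme.{u}}

theorem subsingleton_HHon_of_injective (I : X.Modules) [Injective I] (U : X.Opens) (p : ℕ) :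
    Subsingleton (Coh.HHon X I U (p + 1)) := by
  obtain ⟨e⟩ := Groth.Agent.LD.SC.HH_restrict_equiv U.ι I (p + 1)
  have hI : CohCx.IsTotallyAcyclic (ModSite.toAb (O := X.sheaf) I) :=
    @Groth.Agent.LD.RP.isTotallyAcyclic_toAb_of_injective _ _ _ X.sheaf I ‹_›
  have h2 : Subsingleton (Ext (Groth.Agent.LD.SC.ZU (Groth.Agent.LD.SC.JX X) U.ι.opensRange)
      (Coh.toAb I) (p + 1)) :=
    Groth.Agent.LD.SC.subsingleton_ext_of_isTotallyAcyclic _ _ hI _ p
  exact e.toEquiv.subsingleton

/-- every class of degree `p+1` on the kernel of a ses with injective middle term is a boundary -/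
theorem exists_extδ_eq (U : X.Opens) (S : ShortComplex X.Modules) (hS : S.ShortExact)
    [Injective S.X₂] (p : ℕ) (x : Coh.HHon X S.X₁ U (p + 1)) :
    ∃ x' : Coh.HHon X S.X₃ U p, CohCmp.extδ (toAbOn_shortExact U S hS) p x' = x := by
  haveI := subsingleton_HHon_of_injective S.X₂ U p
  have hA := toAbOn_shortExact U S hS
  have h0 : x.comp (Ext.mk₀ (S.map (CohCmp.toAbOn X U)).f) (add_zero (p + 1)) = 0 :=
    Subsingleton.elim (α := Coh.HHon X S.X₂ U (p + 1)) _ _
  obtain ⟨x', hx'⟩ := Ext.covariant_sequence_exact₁ _ hA x h0 rfl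
  exact ⟨x', hx'⟩

/-- the connecting map kills the image of the middle term. -/
theorem extδ_mapH_g (U : X.Opens) (S : ShortComplex X.Modules) (hS : S.ShortExact)
    (p : ℕ) (z : Coh.HHon X S.X₂ U p) :
    CohCmp.extδ (toAbOn_shortExact U S hS) p
      (CohPull.mapH ((restrictFunctor U.ι).map S.g) p z) = 0 := by
  have hA := toAbOn_shortExact U S hS
  have e1 := Ext.comp_assoc_of_second_deg_zero z (Ext.mk₀ (S.map (CohCmp.toAbOn X U)).g)
    hA.extClass (show p + 1 = p + 1 from rfl)
  exact e1.trans ((congrArg (fun t => z.comp t (show p + 1 = p + 1 from rfl)) hA.comp_extClass).trans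
    (Ext.comp_zero z _ 1 (p + 1) rfl))

section Unique

variable [HasInjectiveResolutions X.Modules] (U : X.Opens)

/-- uniqueness of morphisms out of the effaceable delta-functor `F ↦ H^•(U, F|_U)`. -/
theorem delta_unique (B : ℕ → X.Modules → Type*)
    (a b : ∀ (p : ℕ) (F : X.Modules), Coh.HHon X F U p → B p F)
    (d : ∀ (S : ShortComplex X.Modules) (_ : S.ShortExact) (p : ℕ), B p S.X₃ → B (p + 1) S.X₁)
    (h0 : ∀ (F : X.Modules) (x : Coh.HHon X F U 0), a 0 F x = b 0 F x)
    (ha : ∀ (S : ShortComplex X.Modules) (hS : S.ShortExact) (p : ℕ) (x : Coh.HHon X S.X₃ U p),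
      a (p + 1) S.X₁ (CohCmp.extδ (toAbOn_shortExact U S hS) p x) = d S hS p (a p S.X₃ x))
    (hb : ∀ (S : ShortComplex X.Modules) (hS : S.ShortExact) (p : ℕ) (x : Coh.HHon X S.X₃ U p),
      b (p + 1) S.X₁ (CohCmp.extδ (toAbOn_shortExact U S hS) p x) = d S hS p (b p S.X₃ x)) :
    ∀ (p : ℕ) (F : X.Modules) (x : Coh.HHon X F U p), a p F x = b p F x := by
  intro p
  induction p with
  | zero => exact h0
  | succ p ih =>
    intro F x
    let R := injectiveResolution F
    let i : F ⟶ R.cocomplex.X 0 := R.ι.f 0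
    haveI hi : Mono i := inferInstanceAs (Mono (R.ι.f 0))
    haveI : Injective (R.cocomplex.X 0) := R.injective 0
    let S : ShortComplex X.Modules := ShortComplex.mk i (cokernel.π i) (cokernel.condition i)
    have hS : S.ShortExact :=
      { exact := ShortComplex.exact_cokernel i
        mono_f := hi
        epi_g := inferInstanceAs (Epi (cokernel.π i)) }
    haveI : Injective S.X₂ := R.injective 0
    obtain ⟨x', hx'⟩ := exists_extδ_eq U S hS p x
    rw [← hx']
    exact (ha S hS p x').trans ((congrArg (d S hS p) (ih S.X₃ x')).trans (hb S hS p x').symm)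

end Unique

end Groth.Agent.H8.SectCmp
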