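import Mathlib
import Groth.Prelude.Def_CohCmp
import Groth.Agent.Lib.Helper8.SectCmp.Van
import Groth.Agent.Lib.Helper8.SectCmp.Acyc
import Groth.Agent.Lib.Lead.RS.Sections
import Groth.Agent.Lib.Lead.KS.Chase

set_option autoImplicit false
universe u
open CategoryTheory CategoryTheory.Limits AlgebraicGeometry Opposite TopologicalSpace

namespace Groth.Agent.H8.SectCmp

open Groth.Agent.LD.RS

variable {X S : Scheme.{u}} (f : X ⟶ S) [HasInjectiveResolutions X.Modules]

lemma hAcyc_of_isZero (Z : S.Modules) (hZ : IsZero Z) : HAcyc S Z := fun p =>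
  Groth.Agent.LD.CL.subsingleton_HH_of_isZero hZ (p + 1)

instance preservesFiniteLimits_pushforward : PreservesFiniteLimits (Scheme.Modules.pushforward f) := by
  haveI := (Scheme.Modules.pullbackPushforwardAdjunction f).rightAdjoint_preservesLimits
  infer_instance

lemma hAcyc_R0_injective (I : X.Modules) [Injective I] :
    HAcyc S (((Scheme.Modules.pushforward f).rightDerived 0).obj I) := by
  haveI : IsIso ((Scheme.Modules.pushforward f).toRightDerivedZero) := inferInstance
  exact hAcyc_of_iso (asIso ((Scheme.Modules.pushforward f).toRightDerivedZero.app I))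
    (hAcyc_push_injective f I)

variable {Δ : RDer.DerivedLES (Scheme.Modules.pushforward f)} (E : CohCmp.SectCmp f Δ)

section Step

variable (T : ShortComplex X.Modules) (hT : T.ShortExact) [Injective T.X₂]
  (h₁ : Good (Scheme.Modules.pushforward f) (HAcyc S) T.X₁)

include h₁ in
lemma surj_δ_top (q : ℕ) : Function.Surjective ((Δ.δ T hT q (q + 1) rfl).app ⊤) := by
  rcases q with _ | n
  · have h := epi_G_δ₀ (Scheme.Modules.pushforward f) Δ (ΓF S) acycClass T hT h₁
      (hAcyc_R0_injective f T.X₂)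
    exact (AddCommGrpCat.epi_iff_surjective _).1 h
  · haveI := isIso_δ_succ (Scheme.Modules.pushforward f) Δ T hT n
    intro t
    refine ⟨(inv (Δ.δ T hT (n + 1) (n + 1 + 1) rfl)).app ⊤ t, ?_⟩
    rw [← ConcreteCategory.comp_apply, ← Scheme.Modules.Hom.comp_app, IsIso.inv_hom_id]
    rfl

include h₁ in
lemma ker_δ_top (q : ℕ) (t' : Γ(((Coh.Rpush f q).obj T.X₃), ⊤))
    (ht' : (Δ.δ T hT q (q + 1) rfl).app ⊤ t' = 0) :
    ∃ t : Γ(((Coh.Rpush f q).obj T.X₂), ⊤), ((Coh.Rpush f q).map T.g).app ⊤ t = t' := by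
  rcases q with _ | n
  · have h := exact_G₀ (Scheme.Modules.pushforward f) Δ (ΓF S) acycClass T hT h₁
      (hAcyc_R0_injective f T.X₂)
    exact (ShortComplex.ab_exact_iff _).1 h t' ht'
  · haveI := isIso_δ_succ (Scheme.Modules.pushforward f) Δ T hT n
    refine ⟨0, ?_⟩
    rw [map_zero]
    have h2 : (inv (Δ.δ T hT (n + 1) (n + 1 + 1) rfl)).app ⊤
        ((Δ.δ T hT (n + 1) (n + 1 + 1) rfl).app ⊤ t') = t' := by
      rw [← ConcreteCategory.comp_apply, ← Scheme.Modules.Hom.comp_app, IsIso.hom_inv_id]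
      rfl
    rw [← h2, ht', map_zero]

end Step

theorem eps_top_bijective (q : ℕ) :
    ∀ (M : X.Modules), Good (Scheme.Modules.pushforward f) (HAcyc S) M →
      Function.Bijective (E.ε ⊤ M q) := by
  induction q with
  | zero =>
    intro M _
    haveI : IsIso ((Scheme.Modules.pushforward f).toRightDerivedZero) := inferInstance
    let φ := (Scheme.Modules.pushforward f).toRightDerivedZero.app M
    have h1 : ∀ s, (inv φ).app ⊤ (φ.app ⊤ s) = s := by
      intro s
      rw [← ConcreteCategory.comp_apply, ← Scheme.Modules.Hom.comp_app, IsIso.hom_inv_id]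
      rfl
    have h2 : ∀ t, φ.app ⊤ ((inv φ).app ⊤ t) = t := by
      intro t
      rw [← ConcreteCategory.comp_apply, ← Scheme.Modules.Hom.comp_app, IsIso.inv_hom_id]
      rfl
    constructor
    · intro x x' hxx
      obtain ⟨s, rfl⟩ := (CohPull.sectH0 M (f ⁻¹ᵁ ⊤)).surjective x
      obtain ⟨s', rfl⟩ := (CohPull.sectH0 M (f ⁻¹ᵁ ⊤)).surjective x'
      rw [E.zero, E.zero] at hxx
      have : s = s' := by
        rw [← h1 s, ← h1 s']
        exact congrArg _ hxx
      rw [this]
    · intro t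
      refine ⟨CohPull.sectH0 M _ ((inv φ).app ⊤ t), ?_⟩
      rw [E.zero]
      exact h2 t
  | succ q ih =>
    intro M hM
    let R := injectiveResolution M
    let i : M ⟶ R.cocomplex.X 0 := R.ι.f 0
    haveI hi : Mono i := inferInstanceAs (Mono (R.ι.f 0))
    haveI : Injective (R.cocomplex.X 0) := R.injective 0
    let T : ShortComplex X.Modules := ShortComplex.mk i (cokernel.π i) (cokernel.condition i)
    have hT : T.ShortExact :=
      { exact := ShortComplex.exact_cokernel i
        mono_f := hi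
        epi_g := inferInstanceAs (Epi (cokernel.π i)) }
    haveI : Injective T.X₂ := R.injective 0
    have hM' : Good (Scheme.Modules.pushforward f) (HAcyc S) T.X₁ := hM
    have hQ : Good (Scheme.Modules.pushforward f) (HAcyc S) T.X₃ :=
      good_X₃ (Scheme.Modules.pushforward f) Δ (ΓF S) acycClass T hT hM'
        (hAcyc_R0_injective f T.X₂) hAcyc_of_isZero
    have hI : Good (Scheme.Modules.pushforward f) (HAcyc S) T.X₂ :=
      good_of_injective (Scheme.Modules.pushforward f) T.X₂ (hAcyc_R0_injective f T.X₂)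
        hAcyc_of_isZero
    have ihQ := ih T.X₃ hQ
    have ihI := ih T.X₂ hI
    constructor
    · -- injectivity
      rw [injective_iff_map_eq_zero]
      intro x hx
      obtain ⟨x', hx'⟩ := exists_extδ_eq (f ⁻¹ᵁ ⊤) T hT q x
      have hδ : (Δ.δ T hT q (q + 1) rfl).app ⊤ (E.ε ⊤ T.X₃ q x') = 0 := by
        rw [← E.delta ⊤ T hT (toAbOn_shortExact _ T hT) q x', hx']
        exact hx
      obtain ⟨t, ht⟩ := ker_δ_top f T hT hM' q _ hδ
      obtain ⟨z, hz⟩ := ihI.2 t
      have h3 : E.ε ⊤ T.X₃ q (x' -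
          CohPull.mapH ((Scheme.Modules.restrictFunctor (f ⁻¹ᵁ ⊤).ι).map T.g) q z) = 0 := by
        rw [map_sub, E.natural, hz, ht, sub_self]
      have h4 : x' = CohPull.mapH ((Scheme.Modules.restrictFunctor (f ⁻¹ᵁ ⊤).ι).map T.g) q z :=
        sub_eq_zero.1 ((injective_iff_map_eq_zero _).1 ihQ.1 _ h3)
      rw [← hx', h4]
      exact extδ_mapH_g (f ⁻¹ᵁ ⊤) T hT q z
    · -- surjectivity
      intro t
      obtain ⟨t', ht'⟩ := surj_δ_top f T hT hM' q t
      obtain ⟨x', hx'⟩ := ihQ.2 t'
      refine ⟨CohCmp.extδ (toAbOn_shortExact _ T hT) q x', ?_⟩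
      rw [E.delta ⊤ T hT _ q x', hx']
      exact ht'

end Groth.Agent.H8.SectCmp
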