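import Mathlib
import Groth.Prelude.Def_CohCmp
import Groth.Agent.Lib.Helper8.SectCmp.LocSurj

set_option autoImplicit false
universe u
open CategoryTheory CategoryTheory.Limits AlgebraicGeometry Opposite TopologicalSpace Abelian

namespace Groth.Agent.H8.SectCmp

open CohPull

section Top
variable {X Y : TopCat.{u}} (f : X ⟶ Y)

/-- pullback on cohomology followed by a comparison map. -/
noncomputable def pk {M : CohTop.Ab Y} {N : CohTop.Ab X} (κ : (inv f).obj M ⟶ N) (p : ℕ) :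
    Sheaf.H M p →+ Sheaf.H N p :=
  (Sheaf.H.map κ p).comp (pullAb f M p)

lemma pk_apply {M : CohTop.Ab Y} {N : CohTop.Ab X} (κ : (inv f).obj M ⟶ N) (p : ℕ)
    (y : Sheaf.H M p) :
    pk f κ p y = ((Ext.mk₀ (oneTo f)).comp (y.mapExactFunctor (inv f)) (zero_add p)).comp
      (Ext.mk₀ κ) (add_zero p) := rfl

lemma pk_comp {M₁ M₃ : CohTop.Ab Y} {N₁ N₃ : CohTop.Ab X} (κ₁ : (inv f).obj M₁ ⟶ N₁)
    (κ₃ : (inv f).obj M₃ ⟶ N₃) (ES : Ext N₃ N₁ 1) (ET : Ext M₃ M₁ 1)
    (h : (ET.mapExactFunctor (inv f)).comp (Ext.mk₀ κ₁) (add_zero 1) =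
      (Ext.mk₀ κ₃).comp ES (zero_add 1))
    (p : ℕ) (y : Sheaf.H M₃ p) :
    pk f κ₁ (p + 1) (y.comp ET rfl) = (pk f κ₃ p y).comp ES rfl := by
  rw [pk_apply, pk_apply, Ext.mapExactFunctor_comp]
  rw [Ext.comp_assoc _ _ _ (zero_add (p+1)) (add_zero (p+1)) (by omega),
    Ext.comp_assoc _ _ _ rfl (add_zero 1) (by omega)]
  have e1 := Ext.comp_assoc (Ext.mk₀ (oneTo f))
    ((y.mapExactFunctor (inv f)).comp (Ext.mk₀ κ₃) (add_zero p)) ES (zero_add p) rfl
    (show 0 + p + 1 = p + 1 by omega)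
  have e2 := Ext.comp_assoc (y.mapExactFunctor (inv f)) (Ext.mk₀ κ₃) ES (add_zero p)
    (zero_add 1) (show p + 0 + 1 = p + 1 by omega)
  have e0 := Ext.comp_assoc (Ext.mk₀ (oneTo f)) (y.mapExactFunctor (inv f)) (Ext.mk₀ κ₃)
    (zero_add p) (add_zero p) (show 0 + p + 0 = p by omega)
  rw [e0, e1, e2, h]

lemma pk_δ {S : ShortComplex (CohTop.Ab Y)} (hS : S.ShortExact)
    {S' : ShortComplex (CohTop.Ab X)} (hS' : S'.ShortExact)
    (κ : S.map (inv f) ⟶ S') (p : ℕ) (y : Sheaf.H S.X₃ p) :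
    pk f κ.τ₁ (p + 1) (y.comp hS.extClass rfl) = (pk f κ.τ₃ p y).comp hS'.extClass rfl := by
  have h := ShortComplex.ShortExact.extClass_naturality (hS.map_of_exact (inv f)) hS' κ
  refine pk_comp f κ.τ₁ κ.τ₃ hS'.extClass hS.extClass ?_ p y
  have e : Ext.mapExactFunctor (inv f) hS.extClass = (hS.map_of_exact (inv f)).extClass :=
    Ext.mapExactFunctor_extClass (inv f) hS
  refine Eq.trans ?_ h
  exact congrArg (fun t : Ext ((inv f).obj S.X₃) ((inv f).obj S.X₁) 1 =>
    t.comp (Ext.mk₀ κ.τ₁) (add_zero 1)) e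

end Top

section Sch

/-- naturality of `theta`. -/
lemma theta_naturality {X Y : Scheme.{u}} (g : X ⟶ Y) {M N : Y.Modules} (ψ : M ⟶ N) :
    (inv g.base).map ((SheafOfModules.toSheaf Y.ringCatSheaf).map ψ) ≫ theta g N =
      theta g M ≫ (SheafOfModules.toSheaf X.ringCatSheaf).map
        ((Scheme.Modules.pullback g).map ψ) := by
  apply ((invPushAdj g.base).homEquiv _ _).injective
  rw [Adjunction.homEquiv_naturality_left, Adjunction.homEquiv_naturality_right]
  have e1 : (invPushAdj g.base).homEquiv _ _ (theta g N) =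
      (SheafOfModules.toSheaf Y.ringCatSheaf).map
        ((Scheme.Modules.pullbackPushforwardAdjunction g).unit.app N) := Equiv.apply_symm_apply _ _
  have e2 : (invPushAdj g.base).homEquiv _ _ (theta g M) =
      (SheafOfModules.toSheaf Y.ringCatSheaf).map
        ((Scheme.Modules.pullbackPushforwardAdjunction g).unit.app M) := Equiv.apply_symm_apply _ _
  rw [e1, e2]
  have := (Scheme.Modules.pullbackPushforwardAdjunction g).unit.naturality ψ
  exact ((SheafOfModules.toSheaf Y.ringCatSheaf).map_comp ψ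
    ((Scheme.Modules.pullbackPushforwardAdjunction g).unit.app N)).symm.trans
    ((congrArg (SheafOfModules.toSheaf Y.ringCatSheaf).map this).trans
      ((SheafOfModules.toSheaf Y.ringCatSheaf).map_comp
        ((Scheme.Modules.pullbackPushforwardAdjunction g).unit.app M)
        ((Scheme.Modules.pushforward g).map ((Scheme.Modules.pullback g).map ψ))))

variable {X : Scheme.{u}} {U U' : X.Opens} (h : U' ≤ U)

/-- the restriction morphism of open subschemes. -/
noncomputable abbrev gg : (U' : Scheme.{u}) ⟶ (U : Scheme.{u}) :=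
  Scheme.Hom.resLE (𝟙 X) U U' (by rwa [Scheme.Hom.id_preimage])

/-- the module-level comparison map `g^*(F|_U) ⟶ F|_{U'}` underlying `resLE`. -/
noncomputable def Th (F : X.Modules) :
    (Scheme.Modules.pullback (gg h)).obj (F.restrict U.ι) ⟶ F.restrict U'.ι :=
  (pullOnIso (𝟙 X) U U' (by rwa [Scheme.Hom.id_preimage]) F).hom ≫
    (Scheme.Modules.restrictFunctor U'.ι).map ((Scheme.Modules.pullbackId X).hom.app F)

/-- the abelian comparison map. -/
noncomputable def kap (F : X.Modules) :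
    (inv (gg h).base).obj (Coh.toAb (F.restrict U.ι)) ⟶ Coh.toAb (F.restrict U'.ι) :=
  theta (gg h) (F.restrict U.ι) ≫
    (SheafOfModules.toSheaf (U' : Scheme.{u}).ringCatSheaf).map
      (pullOnIso (𝟙 X) U U' (by rwa [Scheme.Hom.id_preimage]) F).hom ≫
    (SheafOfModules.toSheaf (U' : Scheme.{u}).ringCatSheaf).map
      ((Scheme.Modules.restrictFunctor U'.ι).map ((Scheme.Modules.pullbackId X).hom.app F))

lemma kap_eq (F : X.Modules) :
    kap h F = theta (gg h) (F.restrict U.ι) ≫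
      (SheafOfModules.toSheaf (U' : Scheme.{u}).ringCatSheaf).map (Th h F) :=
  congrArg (fun t => theta (gg h) (F.restrict U.ι) ≫ t)
    ((SheafOfModules.toSheaf (U' : Scheme.{u}).ringCatSheaf).map_comp _ _).symm

lemma H_map_comp3 {T : TopCat.{u}} {F₁ F₂ F₃ F₄ : CohTop.Ab T} (a : F₁ ⟶ F₂) (b : F₂ ⟶ F₃)
    (c : F₃ ⟶ F₄) (p : ℕ) (x : Sheaf.H F₁ p) :
    Sheaf.H.map c p (Sheaf.H.map b p (Sheaf.H.map a p x)) = Sheaf.H.map (a ≫ b ≫ c) p x := by
  rw [Sheaf.H.map_comp_apply, Sheaf.H.map_comp_apply]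

lemma resLE_eq (F : X.Modules) (p : ℕ) (x : Coh.HHon X F U p) :
    resLE F h p x = pk (gg h).base (kap h F) p x :=
  H_map_comp3 _ _ _ p _

end Sch

end Groth.Agent.H8.SectCmp
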