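import Mathlib
import Groth.Prelude.Def_CohCmp
import Groth.Agent.Lib.Helper8.SectCmp.ResA

set_option autoImplicit false
universe u
open CategoryTheory AlgebraicGeometry Opposite TopologicalSpace Abelian

namespace Groth.Agent.H8.SectCmp

open CohPull Scheme.Modules

lemma comp_sq {C : Type*} [Category C] {A₁ A₂ B₁ B₂ C₁ C₂ : C} {a : A₁ ⟶ A₂} {b : B₁ ⟶ B₂}
    {c : C₁ ⟶ C₂} {f₁ : A₁ ⟶ B₁} {f₂ : A₂ ⟶ B₂} {g₁ : B₁ ⟶ C₁} {g₂ : B₂ ⟶ C₂}
    (h₁ : a ≫ f₂ = f₁ ≫ b) (h₂ : b ≫ g₂ = g₁ ≫ c) : a ≫ (f₂ ≫ g₂) = (f₁ ≫ g₁) ≫ c := by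
  rw [← Category.assoc, h₁, Category.assoc, h₂, Category.assoc]

lemma map_sq {C D : Type*} [Category C] [Category D] (G : C ⥤ D) {A₁ A₂ B₁ B₂ : C}
    {a : A₁ ⟶ A₂} {b : B₁ ⟶ B₂} {f₁ : A₁ ⟶ B₁} {f₂ : A₂ ⟶ B₂} (h : a ≫ f₂ = f₁ ≫ b) :
    G.map a ≫ G.map f₂ = G.map f₁ ≫ G.map b := by
  rw [← G.map_comp, ← G.map_comp, h]

variable {X : Scheme.{u}} {U U' : X.Opens} (h : U' ≤ U)

lemma Th_def (F : X.Modules) :
    Th h F = ((pullback (gg h)).map ((restrictFunctorIsoPullback U.ι).hom.app F) ≫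
      ((pullbackComp (gg h) U.ι).hom.app F ≫
        ((pullbackCongr (Scheme.Hom.resLE_comp_ι (𝟙 X) (by rwa [Scheme.Hom.id_preimage]))).hom.app F ≫
          ((pullbackComp U'.ι (𝟙 X)).inv.app F ≫
            (restrictFunctorIsoPullback U'.ι).inv.app ((pullback (𝟙 X)).obj F))))) ≫
      (restrictFunctor U'.ι).map ((pullbackId X).hom.app F) := rfl

lemma Th_naturality {F G : X.Modules} (φ : F ⟶ G) :
    (pullback (gg h)).map ((restrictFunctor U.ι).map φ) ≫ Th h G =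
      Th h F ≫ (restrictFunctor U'.ι).map φ := by
  rw [Th_def h F, Th_def h G]
  exact comp_sq
    (comp_sq (map_sq (pullback (gg h)) ((restrictFunctorIsoPullback U.ι).hom.naturality φ))
      (comp_sq ((pullbackComp (gg h) U.ι).hom.naturality φ)
        (comp_sq ((pullbackCongr (Scheme.Hom.resLE_comp_ι (𝟙 X)
            (by rwa [Scheme.Hom.id_preimage]))).hom.naturality φ)
          (comp_sq ((pullbackComp U'.ι (𝟙 X)).inv.naturality φ)
            ((restrictFunctorIsoPullback U'.ι).inv.naturality ((pullback (𝟙 X)).map φ))))))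
    (map_sq (restrictFunctor U'.ι) ((pullbackId X).hom.naturality φ))

lemma kap_naturality {F G : X.Modules} (φ : F ⟶ G) :
    (inv (gg h).base).map ((CohCmp.toAbOn X U).map φ) ≫ kap h G =
      kap h F ≫ (CohCmp.toAbOn X U').map φ := by
  rw [kap_eq h F, kap_eq h G]
  exact comp_sq (theta_naturality (gg h) ((restrictFunctor U.ι).map φ))
    (map_sq (SheafOfModules.toSheaf (U' : Scheme.{u}).ringCatSheaf) (Th_naturality h φ))

/-- `resLE` commutes with the connecting homomorphisms. -/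
theorem resLE_extδ (S : ShortComplex X.Modules) (hS : S.ShortExact) (p : ℕ)
    (x : Coh.HHon X S.X₃ U p) :
    resLE S.X₁ h (p + 1) (CohCmp.extδ (toAbOn_shortExact U S hS) p x) =
      CohCmp.extδ (toAbOn_shortExact U' S hS) p (resLE S.X₃ h p x) := by
  rw [resLE_eq, resLE_eq]
  let κ : (S.map (CohCmp.toAbOn X U)).map (inv (gg h).base) ⟶ S.map (CohCmp.toAbOn X U') :=
    { τ₁ := kap h S.X₁
      τ₂ := kap h S.X₂
      τ₃ := kap h S.X₃
      comm₁₂ := (kap_naturality h S.f).symm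
      comm₂₃ := (kap_naturality h S.g).symm }
  exact pk_δ (gg h).base (toAbOn_shortExact U S hS) (toAbOn_shortExact U' S hS) κ p x

end Groth.Agent.H8.SectCmp
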