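import Mathlib
import Groth.Prelude.Def_CohCmp
import Groth.Agent.Lib.Helper8.SectCmp.ResB

set_option autoImplicit false
universe u
open CategoryTheory AlgebraicGeometry Opposite TopologicalSpace

namespace Groth.Agent.H8.SectCmp

lemma abstract_key {𝒳 𝒴 𝒵 : Type*} [Category 𝒳] [Category 𝒴] [Category 𝒵]
    {Rb Lb : 𝒳 ⥤ 𝒴} {Gb : 𝒴 ⥤ 𝒳} (adjRb : Rb ⊣ Gb) (adjLb : Lb ⊣ Gb)
    {La : 𝒴 ⥤ 𝒵} {Ga : 𝒵 ⥤ 𝒴} (adjA : La ⊣ Ga)
    {Rc Lc : 𝒳 ⥤ 𝒵} {Gc : 𝒵 ⥤ 𝒳} (adjRc : Rc ⊣ Gc) (adjLc : Lc ⊣ Gc)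
    (pc : Lb ⋙ La ≅ Lc) (qc : Ga ⋙ Gb ≅ Gc)
    (hconj : conjugateEquiv (adjLb.comp adjA) adjLc pc.inv = qc.hom) (F : 𝒳) :
    adjRb.unit.app F ≫ Gb.map (adjA.unit.app (Rb.obj F) ≫
      Ga.map (La.map ((adjRb.leftAdjointUniq adjLb).hom.app F) ≫ pc.hom.app F ≫
        (adjRc.leftAdjointUniq adjLc).inv.app F)) ≫ qc.hom.app (Rc.obj F) =
      adjRc.unit.app F := by
  have h1 := unit_conjugateEquiv (adjLb.comp adjA) adjLc pc.inv F
  rw [hconj] at h1
  have h2 : adjRb.unit.app F ≫ Gb.map ((adjRb.leftAdjointUniq adjLb).hom.app F) =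
      adjLb.unit.app F := Adjunction.unit_leftAdjointUniq_hom_app adjRb adjLb F
  have h3 : adjLc.unit.app F ≫ Gc.map ((adjRc.leftAdjointUniq adjLc).inv.app F) =
      adjRc.unit.app F := by
    rw [Adjunction.leftAdjointUniq_inv_app]
    exact Adjunction.unit_leftAdjointUniq_hom_app adjLc adjRc F
  have h4 : adjA.unit.app (Rb.obj F) ≫
      Ga.map (La.map ((adjRb.leftAdjointUniq adjLb).hom.app F)) =
      (adjRb.leftAdjointUniq adjLb).hom.app F ≫ adjA.unit.app (Lb.obj F) :=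
    (adjA.unit.naturality _).symm
  have h5 : (adjLb.comp adjA).unit.app F =
      adjLb.unit.app F ≫ Gb.map (adjA.unit.app (Lb.obj F)) := by
    simp
  have n1 : Gb.map (Ga.map ((adjRc.leftAdjointUniq adjLc).inv.app F)) ≫ qc.hom.app (Rc.obj F) =
      qc.hom.app (Lc.obj F) ≫ Gc.map ((adjRc.leftAdjointUniq adjLc).inv.app F) :=
    qc.hom.naturality _
  have n2 : Gb.map (Ga.map (pc.hom.app F)) ≫ qc.hom.app (Lc.obj F) =
      qc.hom.app ((Lb ⋙ La).obj F) ≫ Gc.map (pc.hom.app F) :=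
    qc.hom.naturality _
  rw [h5] at h1
  calc adjRb.unit.app F ≫ Gb.map (adjA.unit.app (Rb.obj F) ≫
      Ga.map (La.map ((adjRb.leftAdjointUniq adjLb).hom.app F) ≫ pc.hom.app F ≫
        (adjRc.leftAdjointUniq adjLc).inv.app F)) ≫ qc.hom.app (Rc.obj F)
      = adjRb.unit.app F ≫ Gb.map (adjA.unit.app (Rb.obj F) ≫
          Ga.map (La.map ((adjRb.leftAdjointUniq adjLb).hom.app F))) ≫
          Gb.map (Ga.map (pc.hom.app F)) ≫
          (Gb.map (Ga.map ((adjRc.leftAdjointUniq adjLc).inv.app F)) ≫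
            qc.hom.app (Rc.obj F)) := by
        simp only [Functor.map_comp, Category.assoc]
    _ = adjRb.unit.app F ≫ Gb.map ((adjRb.leftAdjointUniq adjLb).hom.app F ≫
          adjA.unit.app (Lb.obj F)) ≫
          (Gb.map (Ga.map (pc.hom.app F)) ≫ qc.hom.app (Lc.obj F)) ≫
            Gc.map ((adjRc.leftAdjointUniq adjLc).inv.app F) := by
        rw [n1, h4]
        simp only [Category.assoc]
    _ = (adjRb.unit.app F ≫ Gb.map ((adjRb.leftAdjointUniq adjLb).hom.app F)) ≫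
          (Gb.map (adjA.unit.app (Lb.obj F)) ≫ qc.hom.app ((Lb ⋙ La).obj F)) ≫
            Gc.map (pc.hom.app F) ≫ Gc.map ((adjRc.leftAdjointUniq adjLc).inv.app F) := by
        rw [n2]
        simp only [Functor.map_comp, Category.assoc]
    _ = (adjLb.unit.app F ≫ Gb.map (adjA.unit.app (Lb.obj F)) ≫
          qc.hom.app ((Lb ⋙ La).obj F)) ≫
            Gc.map (pc.hom.app F) ≫ Gc.map ((adjRc.leftAdjointUniq adjLc).inv.app F) := by
        rw [h2]
        simp only [Category.assoc]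
    _ = adjRc.unit.app F := by
        rw [Category.assoc] at h1
        rw [h1, Category.assoc, ← Gc.map_comp_assoc, Iso.inv_hom_id_app, Gc.map_id,
          Category.id_comp, h3]

lemma abstract_assemble {C : Type*} [Category C] {X₀ X₁ X₂ X₃ X₄ X₅ X₆ Y₅ : C}
    (A₁ : X₀ ⟶ X₁) (A₂ : X₁ ⟶ X₂) (A₃ : X₂ ⟶ X₃) (A₄ : X₃ ⟶ X₄) (A₅ : X₄ ⟶ X₅) (A₆ : X₅ ⟶ X₆)
    (P : X₄ ⟶ Y₅) (Q : Y₅ ⟶ X₆) (E : X₃ ⟶ Y₅) (K : X₂ ⟶ Y₅)
    (h₁ : A₅ ≫ A₆ = P ≫ Q) (h₂ : A₄ ≫ P = E) (h₃ : A₃ ≫ E = K) :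
    (A₁ ≫ (A₂ ≫ (A₃ ≫ (A₄ ≫ A₅)))) ≫ A₆ = A₁ ≫ A₂ ≫ K ≫ Q := by
  simp only [Category.assoc]
  rw [h₁, ← Category.assoc A₄, h₂, ← Category.assoc A₃, h₃]

open CohPull Scheme.Modules

section General

variable {X Y Z : Scheme.{u}} (a : Z ⟶ Y) (b : Y ⟶ X) (c : Z ⟶ X) (e : a ≫ b = c)
  [IsOpenImmersion b] [IsOpenImmersion c]

/-- the canonical comparison `a^*(F|_Y) ⟶ F|_Z` for `Z → Y → X` open immersions. -/
noncomputable def Thp (F : X.Modules) : (pullback a).obj (F.restrict b) ⟶ F.restrict c :=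
  (pullback a).map ((restrictFunctorIsoPullback b).hom.app F) ≫ (pullbackComp a b).hom.app F ≫
    (pullbackCongr e).hom.app F ≫ (restrictFunctorIsoPullback c).inv.app F

/-- its transpose. -/
noncomputable def Php (F : X.Modules) : F.restrict b ⟶ (pushforward a).obj (F.restrict c) :=
  (pullbackPushforwardAdjunction a).unit.app (F.restrict b) ≫ (pushforward a).map (Thp a b c e F)

end General

section Key

variable {X Y Z : Scheme.{u}} (a : Z ⟶ Y) (b : Y ⟶ X) [IsOpenImmersion b] [IsOpenImmersion (a ≫ b)]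

lemma Thp_rfl (F : X.Modules) :
    Thp a b (a ≫ b) rfl F = (pullback a).map ((restrictFunctorIsoPullback b).hom.app F) ≫
      (pullbackComp a b).hom.app F ≫ (restrictFunctorIsoPullback (a ≫ b)).inv.app F :=
  congrArg (fun t => (pullback a).map ((restrictFunctorIsoPullback b).hom.app F) ≫
      (pullbackComp a b).hom.app F ≫ t)
    (Category.id_comp ((restrictFunctorIsoPullback (a ≫ b)).inv.app F))

lemma key_concrete (F : X.Modules) :
    (restrictAdjunction b).unit.app F ≫ (pushforward b).map (Php a b (a ≫ b) rfl F) ≫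
      (pushforwardComp a b).hom.app (F.restrict (a ≫ b)) =
    (restrictAdjunction (a ≫ b)).unit.app F := by
  have := abstract_key (restrictAdjunction b) (pullbackPushforwardAdjunction b)
    (pullbackPushforwardAdjunction a) (restrictAdjunction (a ≫ b))
    (pullbackPushforwardAdjunction (a ≫ b)) (pullbackComp a b) (pushforwardComp a b)
    (conjugateEquiv_pullbackComp_inv a b) F
  unfold Php
  rw [Thp_rfl]
  exact this

end Key

section Sections

variable {X Y Z : Scheme.{u}} (a : Z ⟶ Y) (b : Y ⟶ X) (c : Z ⟶ X) (e : a ≫ b = c)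
  [IsOpenImmersion b] [IsOpenImmersion c]

/-- on sections, the transposed comparison is the restriction map of `F`. -/
theorem Php_app (F : X.Modules) (W : Y.Opens) (s : Γ(F.restrict b, W))
    (hle : c ''ᵁ (a ⁻¹ᵁ W) ≤ b ''ᵁ W) :
    (Php a b c e F).app W s = F.presheaf.map (homOfLE hle).op s := by
  subst e
  have h₁ : b ⁻¹ᵁ (b ''ᵁ W) ≤ W := le_of_eq (b.preimage_image_eq W)
  have h₂ : W ≤ b ⁻¹ᵁ (b ''ᵁ W) := le_of_eq (b.preimage_image_eq W).symm
  have key := key_concrete a b F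
  have k1 := congr($(congr(Scheme.Modules.Hom.app $key (b ''ᵁ W))) s)
  rw [Scheme.Modules.Hom.comp_app, Scheme.Modules.Hom.comp_app, ConcreteCategory.comp_apply,
    ConcreteCategory.comp_apply] at k1
  have nat := app_res (Php a b (a ≫ b) rfl F) h₁ s
  have k2 : ((pushforward a).obj (F.restrict (a ≫ b))).presheaf.map (homOfLE h₁).op
      ((Php a b (a ≫ b) rfl F).app W s) =
      F.presheaf.map (homOfLE ((a ≫ b).image_preimage_le (b ''ᵁ W))).op s :=
    nat.symm.trans k1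
  have k3 := congrArg
    (fun t => ((pushforward a).obj (F.restrict (a ≫ b))).presheaf.map (homOfLE h₂).op t) k2
  simp only [] at k3
  rw [← ConcreteCategory.comp_apply, ← Functor.map_comp] at k3
  have e1 : (homOfLE h₁).op ≫ (homOfLE h₂).op = 𝟙 (op W) := Subsingleton.elim _ _
  rw [e1, CategoryTheory.Functor.map_id, ConcreteCategory.id_apply] at k3
  rw [k3]
  change (F.presheaf.map _ ≫ F.presheaf.map _) s = _
  rw [← Functor.map_comp]
  rfl

end Sections

section ResLE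

variable {X : Scheme.{u}} {U U' : X.Opens} (h : U' ≤ U)

lemma gg_comp_ι : gg h ≫ U.ι = U'.ι :=
  (Scheme.Hom.resLE_comp_ι (𝟙 X) (by rwa [Scheme.Hom.id_preimage])).trans (Category.comp_id _)

lemma eqToIso_app_comp {C D : Type*} [Category C] [Category D] {G₁ G₂ G₃ : C ⥤ D}
    (p : G₁ = G₂) (q : G₂ = G₃) (r : G₁ = G₃) (F : C) :
    (eqToIso p).hom.app F ≫ (eqToHom q).app F = (eqToIso r).hom.app F := by
  subst p
  subst q
  simp

lemma Th_eq (F : X.Modules) : Th h F = Thp (gg h) U.ι U'.ι (gg_comp_ι h) F := by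
  rw [Th_def]
  have lu := NatTrans.congr_app (pseudofunctor_left_unitality U'.ι) F
  simp only [NatTrans.comp_app, Functor.whiskerRight_app, Functor.leftUnitor_hom_app,
    Category.comp_id] at lu
  refine abstract_assemble _ _ _ _ _ _ ((pullback U'.ι).map ((pullbackId X).hom.app F))
    ((restrictFunctorIsoPullback U'.ι).inv.app F) _ ((pullbackCongr (gg_comp_ι h)).hom.app F)
    ((restrictFunctorIsoPullback U'.ι).inv.naturality ((pullbackId X).hom.app F)).symm rfl ?_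
  have lu' : (pullbackComp U'.ι (𝟙 X)).inv.app F ≫
      (pullback U'.ι).map ((pullbackId X).hom.app F) =
      NatTrans.app (eqToHom (by simp) : pullback (U'.ι ≫ 𝟙 X) ⟶ pullback U'.ι) F :=
    (congrArg (fun t => (pullbackComp U'.ι (𝟙 X)).inv.app F ≫ t) (Category.comp_id _).symm).trans lu
  rw [lu']
  exact eqToIso_app_comp _ _ _ F

theorem equiv₀_resLE (F : X.Modules) (x : Coh.HHon X F U 0)
    (hle : U'.ι ''ᵁ ((gg h) ⁻¹ᵁ ⊤) ≤ U.ι ''ᵁ ⊤) :
    Sheaf.H.equiv₀ (Coh.toAb (F.restrict U'.ι)) Limits.isTerminalTop (resLE F h 0 x) =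
      F.presheaf.map (homOfLE hle).op
        (Sheaf.H.equiv₀ (Coh.toAb (F.restrict U.ι)) Limits.isTerminalTop x) := by
  rw [← Php_app (gg h) U.ι U'.ι (gg_comp_ι h) F ⊤ _ hle]
  unfold Php
  rw [← Th_eq]
  simp only [resLE, pullOn, AddMonoidHom.coe_comp, Function.comp_apply, mapH]
  rw [← Sheaf.H.equiv₀_naturality, ← Sheaf.H.equiv₀_naturality, equiv₀_pullMod]
  rfl

theorem resLE_sectH0 (F : X.Modules) (s : F.presheaf.obj (op U)) :
    resLE F h 0 (sectH0 F U s) = sectH0 F U' (F.presheaf.map (homOfLE h).op s) := by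
  apply (Sheaf.H.equiv₀ (Coh.toAb (F.restrict U'.ι)) Limits.isTerminalTop).injective
  have hle : U'.ι ''ᵁ ((gg h) ⁻¹ᵁ ⊤) ≤ U.ι ''ᵁ ⊤ := by
    rw [U.ι_image_top]
    exact (U'.ι_image_le _).trans h
  rw [equiv₀_resLE h F _ hle]
  have e1 : ∀ (V : X.Opens) (t : F.presheaf.obj (op V)),
      Sheaf.H.equiv₀ (Coh.toAb (F.restrict V.ι)) Limits.isTerminalTop (sectH0 F V t) =
        F.presheaf.map (eqToHom V.ι_image_top).op t := by
    intro V t
    simp only [sectH0, AddEquiv.trans_apply, AddEquiv.apply_symm_apply]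
    rfl
  rw [e1, e1]
  change (F.presheaf.map _ ≫ F.presheaf.map _) s = (F.presheaf.map _ ≫ F.presheaf.map _) s
  rw [← Functor.map_comp, ← Functor.map_comp]
  rfl

end ResLE

end Groth.Agent.H8.SectCmp
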