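import Mathlib
import Groth.Prelude.Def_CohCmp
import Groth.Agent.Lib.Helper8.SectCmp.Van
import Groth.Agent.Lib.Helper8.SectCmp.ResC
import Groth.Agent.Lib.Lead.QC.BiprodSec

set_option autoImplicit false
universe u
open CategoryTheory CategoryTheory.Limits AlgebraicGeometry Opposite TopologicalSpace

namespace Groth.Agent.H8.SectCmp

variable {X Y : Scheme.{u}}

lemma map_map_apply (F : X.Modules) {A B C : X.Opens} (h₁ : B ≤ A) (h₂ : C ≤ B)
    (s : F.presheaf.obj (op A)) :
    F.presheaf.map (homOfLE h₂).op (F.presheaf.map (homOfLE h₁).op s) =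
      F.presheaf.map (homOfLE (h₂.trans h₁)).op s := by
  change (F.presheaf.map _ ≫ F.presheaf.map _) s = _
  rw [← Functor.map_comp]
  rfl

section Trans

variable [HasInjectiveResolutions X.Modules] {U₁ U₂ U₃ : X.Opens} (h₁₂ : U₂ ≤ U₁) (h₂₃ : U₃ ≤ U₂)

/-- transitivity of `resLE`. -/
theorem resLE_trans (p : ℕ) (F : X.Modules) (x : Coh.HHon X F U₁ p) :
    CohPull.resLE F h₂₃ p (CohPull.resLE F h₁₂ p x) = CohPull.resLE F (h₂₃.trans h₁₂) p x := by
  refine delta_unique U₁ (fun p F => Coh.HHon X F U₃ p)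
    (fun p F x => CohPull.resLE F h₂₃ p (CohPull.resLE F h₁₂ p x))
    (fun p F x => CohPull.resLE F (h₂₃.trans h₁₂) p x)
    (fun S hS p t => CohCmp.extδ (toAbOn_shortExact U₃ S hS) p t) ?_ ?_ ?_ p F x
  · intro F x
    obtain ⟨s, rfl⟩ := (CohPull.sectH0 F U₁).surjective x
    rw [resLE_sectH0, resLE_sectH0, resLE_sectH0, map_map_apply]
  · intro S hS p x
    rw [resLE_extδ h₁₂ S hS, resLE_extδ h₂₃ S hS]
  · intro S hS p x
    exact resLE_extδ _ S hS p x

end Trans

section Eps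

variable (f : X ⟶ Y) [HasInjectiveResolutions X.Modules]
  {Δ : RDer.DerivedLES (Scheme.Modules.pushforward f)} (E : CohCmp.SectCmp f Δ)

/-- the comparison maps are compatible with restriction. -/
theorem eps_res {V W : Y.Opens} (hWV : W ≤ V) (p : ℕ) (F : X.Modules)
    (x : Coh.HHon X F (f ⁻¹ᵁ V) p) :
    E.ε W F p (CohPull.resLE F (f.preimage_mono hWV) p x) =
      ((Coh.Rpush f p).obj F).presheaf.map (homOfLE hWV).op (E.ε V F p x) := by
  refine delta_unique (f ⁻¹ᵁ V) (fun p F => ↑(((Coh.Rpush f p).obj F).presheaf.obj (op W)))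
    (fun p F x => E.ε W F p (CohPull.resLE F (f.preimage_mono hWV) p x))
    (fun p F x => ((Coh.Rpush f p).obj F).presheaf.map (homOfLE hWV).op (E.ε V F p x))
    (fun S hS p t => (Δ.δ S hS p (p + 1) rfl).app W t) ?_ ?_ ?_ p F x
  · intro F x
    obtain ⟨s, rfl⟩ := (CohPull.sectH0 F (f ⁻¹ᵁ V)).surjective x
    rw [resLE_sectH0, E.zero, E.zero]
    exact app_res ((Scheme.Modules.pushforward f).toRightDerivedZero.app F) hWV s
  · intro S hS p x
    rw [resLE_extδ (f.preimage_mono hWV) S hS]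
    exact E.delta W S hS _ p _
  · intro S hS p x
    rw [E.delta V S hS _ p x]
    exact (app_res _ hWV _).symm

theorem eps_locally_injective (p : ℕ) :
    ∀ (F : X.Modules) (V : Y.Opens) (x : Coh.HHon X F (f ⁻¹ᵁ V) p), E.ε V F p x = 0 →
      ∀ (y : Y), y ∈ V → ∃ (W : Y.Opens) (hWV : W ≤ V), y ∈ W ∧
        CohPull.resLE F (f.preimage_mono hWV) p x = 0 := by
  induction p with
  | zero =>
    intro F V x hx y hy
    obtain ⟨s, rfl⟩ := (CohPull.sectH0 F (f ⁻¹ᵁ V)).surjective x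
    rw [E.zero] at hx
    haveI : PreservesFiniteLimits (Scheme.Modules.pushforward f) := by
      haveI := (Scheme.Modules.pullbackPushforwardAdjunction f).rightAdjoint_preservesLimits
      infer_instance
    haveI : IsIso ((Scheme.Modules.pushforward f).toRightDerivedZero) := inferInstance
    let φ := (Scheme.Modules.pushforward f).toRightDerivedZero.app F
    have hs : s = 0 := by
      have h1 : (inv φ).app V (φ.app V s) = s := by
        rw [← ConcreteCategory.comp_apply, ← Scheme.Modules.Hom.comp_app, IsIso.hom_inv_id]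
        rfl
      rw [← h1]
      change (inv φ).app V (((Scheme.Modules.pushforward f).toRightDerivedZero.app F).app V s) = 0
      rw [hx, map_zero]
    refine ⟨V, le_rfl, hy, ?_⟩
    rw [hs, map_zero, map_zero]
  | succ p ih =>
    intro F V x hx y hy
    let R := injectiveResolution F
    let i : F ⟶ R.cocomplex.X 0 := R.ι.f 0
    haveI hi : Mono i := inferInstanceAs (Mono (R.ι.f 0))
    haveI : Injective (R.cocomplex.X 0) := R.injective 0
    let S : ShortComplex X.Modules := ShortComplex.mk i (cokernel.π i) (cokernel.condition i)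
    have hS : S.ShortExact :=
      { exact := ShortComplex.exact_cokernel i
        mono_f := hi
        epi_g := inferInstanceAs (Epi (cokernel.π i)) }
    haveI : Injective S.X₂ := R.injective 0
    obtain ⟨x', hx'⟩ := exists_extδ_eq (f ⁻¹ᵁ V) S hS p x
    have hδ : (Δ.δ S hS p (p + 1) rfl).app V (E.ε V S.X₃ p x') = 0 := by
      rw [← E.delta V S hS (toAbOn_shortExact _ S hS) p x', hx']
      exact hx
    obtain ⟨W₁, hW₁, hyW₁, t, ht⟩ := Groth.Agent.LD.QC.local_of_exact
      (Δ.exact₃ S hS p (p + 1) rfl) V (E.ε V S.X₃ p x') hδ y hy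
    obtain ⟨W₂, hW₂, hyW₂, z, hz⟩ := eps_locally_surjective f E p S.X₂ W₁ t y hyW₁
    have hW₂V : W₂ ≤ V := hW₂.trans hW₁
    have hx'' : E.ε W₂ S.X₃ p (CohPull.resLE S.X₃ (f.preimage_mono hW₂V) p x' -
        CohPull.mapH ((Scheme.Modules.restrictFunctor (f ⁻¹ᵁ W₂).ι).map S.g) p z) = 0 := by
      have ht' : ((Coh.Rpush f p).map S.g).app W₁ t =
          ((Coh.Rpush f p).obj S.X₃).presheaf.map (homOfLE hW₁).op (E.ε V S.X₃ p x') := ht
      rw [map_sub, eps_res f E hW₂V, E.natural, hz, app_res, ht', map_map_apply, sub_self]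
    obtain ⟨W₃, hW₃, hyW₃, h3⟩ := ih S.X₃ W₂ _ hx'' y hyW₂
    refine ⟨W₃, hW₃.trans hW₂V, hyW₃, ?_⟩
    rw [map_sub, sub_eq_zero, resLE_trans] at h3
    have h4 : CohPull.resLE S.X₃ (f.preimage_mono (hW₃.trans hW₂V)) p x' =
        CohPull.resLE S.X₃ (f.preimage_mono hW₃) p
          (CohPull.mapH ((Scheme.Modules.restrictFunctor (f ⁻¹ᵁ W₂).ι).map S.g) p z) := h3
    have e5 : CohPull.resLE F (f.preimage_mono (hW₃.trans hW₂V)) (p + 1)
        (CohCmp.extδ (toAbOn_shortExact (f ⁻¹ᵁ V) S hS) p x') =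
        CohCmp.extδ (toAbOn_shortExact (f ⁻¹ᵁ W₃) S hS) p
          (CohPull.resLE S.X₃ (f.preimage_mono (hW₃.trans hW₂V)) p x') :=
      resLE_extδ (f.preimage_mono (hW₃.trans hW₂V)) S hS p x'
    have e6 := resLE_extδ (f.preimage_mono hW₃) S hS p
      (CohPull.mapH ((Scheme.Modules.restrictFunctor (f ⁻¹ᵁ W₂).ι).map S.g) p z)
    rw [extδ_mapH_g (f ⁻¹ᵁ W₂) S hS p z] at e6
    have e7 : CohPull.resLE S.X₁ (f.preimage_mono hW₃) (p + 1) 0 = 0 :=
      (CohPull.resLE S.X₁ (f.preimage_mono hW₃) (p + 1)).map_zero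
    rw [← hx', e5, h4]
    exact e6.symm.trans e7

end Eps

end Groth.Agent.H8.SectCmp
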